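import Groth.Agent.EqNhdCommLib.Rigid
import Groth.Agent.EqNhdLib.Main
import Groth.Agent.MultHomLib.Desc

/-!
Rigidity for two commuting subgroups of multiplicative type.
-/

set_option autoImplicit false
set_option backward.isDefEq.respectTransparency false

noncomputable section

universe u

open CategoryTheory CategoryTheory.Limits MonoidalCategory CartesianMonoidalCategory AlgebraicGeometry CoactBr
open scoped MonObj TensorProduct

namespace Groth.Agent.EqNhdComm

open Groth.Agent.EqNhd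

open Groth.Agent.FreeAct (DA chr)
open Groth.Agent.MonoLocus (hpt hpt_mul homEquiv_hpt kob kin comp_eq_one_iff)
open Groth.Agent.MultEq (LE pob pr₁ pr₂ diffR Diff)

attribute [local instance] CoactBr.braidedAlgSpecOf

variable {S : Scheme.{u}} {G H H' : Over S} [GrpObj G] [GrpObj H] [GrpObj H'] {R : Type u} [CommRing R]
  {M : Type} [AddCommGroup M] (p : Spec (CommRingCat.of R) ⟶ S)

/-- A flat cover of the closed fibre of a local split piece along which the first subgroup is in the second. -/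
theorem exists_cover_piece [IsLocalRing R] [AddGroup.FG M] {M' : Type} [AddCommGroup M'] [Flat p]
    (hG : IsLocallyNoetherian S ∨ LocallyOfFinitePresentation G.hom) (hH : SGA3x.IsMultTypeFT H)
    (hH' : SGA3x.IsMultTypeFT H') {i : H ⟶ G} [IsMonHom i] {i' : H' ⟶ G} [IsMonHom i'] [Mono i']
    (w : sp R (DA R M) ≅ Red.bc p H) [IsMonHom w.hom] (w' : sp R (DA R M') ≅ Red.bc p H') [IsMonHom w'.hom]
    (hle : LE i i' (S.fromSpecResidueField (p (IsLocalRing.closedPoint R))))
    (hc : ∀ (X : Over S) (h : X ⟶ H) (h' : X ⟶ H'), (h ≫ i) * (h' ≫ i') = (h' ≫ i') * (h ≫ i))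
    (x : H.left) (hx : H.hom x = p (IsLocalRing.closedPoint R)) :
    ∃ (D : Scheme.{u}) (q : D ⟶ H.left) (z : D ⟶ (pob i i').left), Flat q ∧ z ≫ (pr₁ i i').left = q ∧
      x ∈ Set.range q := by
  haveI := MultEq.lfp_of_isMultTypeFT hH
  haveI := MultEq.lfp_of_isMultTypeFT hH'
  let m := IsLocalRing.maximalIdeal R
  let k := IsLocalRing.ResidueField R
  let ψ : R →+* k := IsLocalRing.residue R
  let κ := Spec.map (CommRingCat.ofHom ψ) ≫ p
  have hpt0 : κ (IsLocalRing.closedPoint k) = p (IsLocalRing.closedPoint R) := by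
    refine congrArg (fun b => p b) (PrimeSpectrum.ext ?_)
    show Ideal.comap ψ (IsLocalRing.maximalIdeal k) = m
    rw [IsLocalRing.maximalIdeal_eq_bot]
    exact IsLocalRing.ker_residue
  have hleκ : LE i i' κ := by
    rw [← Scheme.descResidueField_stalkClosedPointTo_fromSpecResidueField k S κ]
    exact (hpt0.symm ▸ hle).comp _
  obtain ⟨φ, hφ⟩ := MultEq.exists_charMap p w w' ψ hleκ
  obtain ⟨V⟩ := nonempty_chart (Red.bc p G)
  let a := ptsHom p w i
  let b := (ptsHom p w' i').restrict φ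
  have hres : ∀ (A : Type u) [CommRing A] [Algebra R A], m ≤ RingHom.ker (algebraMap R A) →
      ∃ g : k →+* A, g.comp ψ = algebraMap R A := fun A _ _ hA =>
    ⟨Ideal.Quotient.lift m (algebraMap R A) hA, Ideal.Quotient.lift_comp_mk _ _ _⟩
  have heq : ∀ (A : Type u) [CommRing A] [Algebra R A], m ≤ RingHom.ker (algebraMap R A) →
      ∀ χ : Multiplicative M →* A, a.ev A χ = b.ev A χ := by
    intro A _ _ hA χ
    obtain ⟨g, hg⟩ := hres A hA
    exact congrArg ((Over.mapPullbackAdj p).homEquiv (sp R A) G) (hφ A g hg χ).symm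
  have hcomm : ∀ (A : Type u) [CommRing A] [Algebra R A] (χ χ' : Multiplicative M →* A),
      a.ev A χ * b.ev A χ' = b.ev A χ' * a.ev A χ := by
    intro A _ _ χ χ'
    show (Over.mapPullbackAdj p).homEquiv (sp R A) G (hpt p w χ ≫ i) *
        (Over.mapPullbackAdj p).homEquiv (sp R A) G (hpt p w' (χ'.comp φ) ≫ i') =
      (Over.mapPullbackAdj p).homEquiv (sp R A) G (hpt p w' (χ'.comp φ) ≫ i') *
        (Over.mapPullbackAdj p).homEquiv (sp R A) G (hpt p w χ ≫ i)
    rw [← AlgGrp.Action.homEquiv_mul, ← AlgGrp.Action.homEquiv_mul, hc]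
  haveI : LocallyOfFiniteType (H ⊗ H').hom := MultEq.lft_tensor
  obtain ⟨g, hg, hgeq⟩ := exists_open_eq (R := R) V a b (eqFP_ptsHom p w w' (lfp_kin' hG _) φ) hcomm heq
  let Dg : Type u := Localization.Away g
  let u₁ : Multiplicative M →* DA R M := MonoidAlgebra.of R (Multiplicative M)
  let ug : Multiplicative M →* Dg := (algebraMap (DA R M) Dg).toMonoidHom.comp u₁
  have hh : hpt p w ug ≫ i = hpt p w' (ug.comp φ) ≫ i' :=
    ((Over.mapPullbackAdj p).homEquiv _ G).injective hgeq
  obtain ⟨z, hz, -⟩ := MultEq.exists_lift_pob _ _ hh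
  have hchr : (chr (R := R) Dg ug).toRingHom = algebraMap (DA R M) Dg := by
    have : chr (R := R) Dg ug = IsScalarTower.toAlgHom R (DA R M) Dg :=
      AlgHom.toLinearMap_injective ((MonoidAlgebra.basis (Multiplicative M) R).ext fun m => by simp [chr, ug, u₁])
    rw [this]
    rfl
  let q : Spec (CommRingCat.of Dg) ⟶ H.left :=
    Spec.map (CommRingCat.ofHom (algebraMap (DA R M) Dg)) ≫ w.hom.left ≫ pullback.fst H.hom p
  have hqeq : (hpt p w ug).left = q := by rw [hpt_left, hchr]
  haveI : IsIso w.hom.left := inferInstanceAs (IsIso ((Over.forget _).map w.hom))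
  haveI : Flat q := inferInstance
  obtain ⟨v, hv₁, hv₂⟩ := Scheme.Pullback.exists_preimage_pullback (f := H.hom) (g := p) x
    (IsLocalRing.closedPoint R) hx
  let Q : PrimeSpectrum (DA R M) := (inv w.hom.left) v
  have hwQ : w.hom.left Q = v := by
    show (inv w.hom.left ≫ w.hom.left) v = v
    rw [IsIso.inv_hom_id]
    rfl
  have hQm : m.map (algebraMap R (DA R M)) ≤ Q.asIdeal := by
    rw [Ideal.map_le_iff_le_comap]
    have h1 : (sp R (DA R M)).hom Q = IsLocalRing.closedPoint R := by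
      rw [← Over.w w.hom, Scheme.Hom.comp_apply, hwQ]
      exact hv₂
    exact (congrArg PrimeSpectrum.asIdeal h1).ge
  have hgQ : g ∉ Q.asIdeal := fun hmem => Q.isPrime.ne_top ((Ideal.eq_top_iff_one _).2 (by
    simpa using sub_mem hmem (hQm hg)))
  obtain ⟨t, ht⟩ : Q ∈ Set.range (PrimeSpectrum.comap (algebraMap (DA R M) Dg)) := by
    rw [PrimeSpectrum.localization_away_comap_range Dg g]
    exact hgQ
  have hqt : q t = x := by
    show (Spec.map (CommRingCat.ofHom (algebraMap (DA R M) Dg)) ≫ w.hom.left ≫ pullback.fst H.hom p) t = x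
    rw [Scheme.Hom.comp_apply, Scheme.Hom.comp_apply]
    exact ((congrArg (fun b => pullback.fst H.hom p (w.hom.left b)) ht).trans (congrArg _ hwQ)).trans hv₁
  exact ⟨Spec (CommRingCat.of Dg), q, z.left, inferInstance, (congrArg CommaMorphism.left hz).trans hqeq, t, hqt⟩

variable {i : H ⟶ G} {i' : H' ⟶ G}

/-- A monomorphism through which a flat cover factors is an isomorphism. -/
theorem isIso_of_mono_cover {P X : Scheme.{u}} (g : P ⟶ X) [Mono g] [QuasiCompact g] {I : Type u}
    {D : I → Scheme.{u}} (q : ∀ a, D a ⟶ X) (hflat : ∀ a, Flat (q a)) (hcov : ∀ x : X, ∃ a, x ∈ Set.range (q a))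
    (z : ∀ a, D a ⟶ P) (hz : ∀ a, z a ≫ g = q a) : IsIso g := by
  refine MultHom.isIso_of_mono_fs g (MultHom.descends_fs g q hflat hcov fun a => ?_)
  let l : D a ⟶ pullback g (q a) := pullback.lift (z a) (𝟙 _) (by rw [hz, Category.id_comp])
  haveI : IsSplitEpi (pullback.snd g (q a)) := IsSplitEpi.mk' ⟨l, pullback.lift_snd _ _ _⟩
  haveI : IsIso (pullback.snd g (q a)) := isIso_of_mono_of_isSplitEpi _
  exact ⟨inferInstance, inferInstance⟩

/-- Inclusion descends along a flat surjection, for a quasi-compact monomorphism. -/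
theorem le_of_flat_surjective [Mono i'] [QuasiCompact i'.left] {T T' : Scheme.{u}} {κ : T ⟶ S} (g : T' ⟶ T)
    [Flat g] [Surjective g] (h : LE i i' (g ≫ κ)) : LE i i' κ := by
  intro Y q hq y
  haveI : Mono i'.left := inferInstanceAs (Mono ((Over.forget S).map i'))
  let v := pullback.snd i'.left (y ≫ i).left
  let Y' : Over S := Over.mk (pullback.fst q g ≫ Y.hom)
  let e : Y' ⟶ Y := Over.homMk (pullback.fst _ _)
  obtain ⟨h', hh'⟩ := h Y' (pullback.snd _ _) (by
    show pullback.snd _ _ ≫ g ≫ κ = pullback.fst _ _ ≫ Y.hom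
    rw [← pullback.condition_assoc, hq]) (e ≫ y)
  rw [Category.assoc] at hh'
  haveI : IsIso v := isIso_of_mono_cover v (I := PUnit.{u + 1}) (fun _ => pullback.fst q g)
    (fun _ => inferInstance) (fun a => ⟨PUnit.unit, (pullback.fst q g).surjective a⟩)
    (fun _ => pullback.lift h'.left (pullback.fst q g) (congrArg CommaMorphism.left hh'))
    (fun _ => pullback.lift_snd _ _ _)
  have hc : (inv v ≫ pullback.fst i'.left (y ≫ i).left) ≫ i'.left = (y ≫ i).left := by
    rw [Category.assoc, pullback.condition, show pullback.snd i'.left (y ≫ i).left = v from rfl,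
      IsIso.inv_hom_id_assoc]
  refine ⟨Over.homMk (inv v ≫ pullback.fst _ _) ?_, Over.OverMorphism.ext hc⟩
  exact ((congrArg (_ ≫ ·) (Over.w i')).symm.trans (Category.assoc _ _ _).symm).trans
    ((congrArg (· ≫ G.hom) hc).trans (Over.w _))

/-- A subgroup of multiplicative type which lies in a second one in every fibre and commutes with it lies in it. -/
theorem exists_factor [IsMonHom i] [IsMonHom i'] [Mono i'] [QuasiCompact i'.left]
    (hG : IsLocallyNoetherian S ∨ LocallyOfFinitePresentation G.hom) (hH : SGA3x.IsMultTypeFT H)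
    (hH' : SGA3x.IsMultTypeFT H') (hle : ∀ s : S, LE i i' (S.fromSpecResidueField s))
    (hc : ∀ (X : Over S) (h : X ⟶ H) (h' : X ⟶ H'), (h ≫ i) * (h' ≫ i') = (h' ≫ i') * (h ≫ i)) :
    ∃ f : H ⟶ H', f ≫ i' = i := by
  haveI : Mono i'.left := inferInstanceAs (Mono ((Over.forget S).map i'))
  haveI : Mono (pr₁ i i').left := inferInstanceAs (Mono (pullback.fst i.left i'.left))
  haveI : QuasiCompact (pr₁ i i').left := inferInstanceAs (QuasiCompact (pullback.fst i.left i'.left))
  have piece : ∀ x : H.left, ∃ (D : Scheme.{u}) (q : D ⟶ H.left) (z : D ⟶ (pob i i').left),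
      Flat q ∧ z ≫ (pr₁ i i').left = q ∧ x ∈ Set.range q := by
    intro x
    let s := H.hom x
    obtain ⟨S₁, f₁, hflat₁, hsurj₁, hcov₁, hloc₁⟩ := id hH
    obtain ⟨S₂, f₂, hflat₂, hsurj₂, hcov₂, hloc₂⟩ := id hH'
    haveI := hflat₁
    haveI := hsurj₁
    haveI := hflat₂
    haveI := hsurj₂
    obtain ⟨z, hz⟩ := (pullback.fst f₁ f₂ ≫ f₁).surjective s
    obtain ⟨U₁, hzU₁, M, _, hM, ⟨e₁⟩⟩ := hloc₁ (pullback.fst f₁ f₂ z)
    obtain ⟨U₂, hzU₂, M', _, _, ⟨e₂⟩⟩ := hloc₂ (pullback.snd f₁ f₂ z)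
    let T : (pullback f₁ f₂).Opens := pullback.fst f₁ f₂ ⁻¹ᵁ U₁ ⊓ pullback.snd f₁ f₂ ⁻¹ᵁ U₂
    let zT : (T : Scheme.{u}) := ⟨z, hzU₁, hzU₂⟩
    let R : Type u := (T : Scheme.{u}).presheaf.stalk zT
    let j : Spec (CommRingCat.of R) ⟶ (T : Scheme.{u}) := (T : Scheme.{u}).fromSpecStalk zT
    haveI : Flat j := flat_fromSpecStalk zT
    haveI : IsLocalRing R := inferInstanceAs (IsLocalRing ((T : Scheme.{u}).presheaf.stalk zT))
    let p : Spec (CommRingCat.of R) ⟶ S := j ≫ T.ι ≫ pullback.fst f₁ f₂ ≫ f₁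
    haveI : Flat p := by
      show Flat (j ≫ T.ι ≫ pullback.fst f₁ f₂ ≫ f₁)
      infer_instance
    obtain ⟨w, hw⟩ := MultLift.exists_split_iso e₁ (j ≫ (pullback.fst f₁ f₂).resLE U₁ T inf_le_left) p (by
      rw [Category.assoc, Scheme.Hom.resLE_comp_ι_assoc])
    obtain ⟨w', hw'⟩ := MultLift.exists_split_iso e₂ (j ≫ (pullback.snd f₁ f₂).resLE U₂ T inf_le_right) p (by
      rw [Category.assoc, Scheme.Hom.resLE_comp_ι_assoc, ← pullback.condition])
    haveI := hw
    haveI := hw'
    haveI := hM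
    have hps : p (IsLocalRing.closedPoint R) = s := by
      show f₁ (pullback.fst f₁ f₂ (T.ι (j (IsLocalRing.closedPoint R)))) = s
      rw [show j (IsLocalRing.closedPoint R) = zT from Scheme.fromSpecStalk_closedPoint]
      exact hz
    exact exists_cover_piece p hG hH hH' w w' (hps.symm ▸ hle s) hc x (hps.symm)
  choose D q z hflat hz hmem using piece
  haveI := isIso_of_mono_cover (pr₁ i i').left q hflat (fun x => ⟨x, hmem x⟩) z hz
  haveI : IsIso (pr₁ i i') := by
    haveI : IsIso ((Over.forget S).map (pr₁ i i')) := ‹IsIso (pr₁ i i').left›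
    exact isIso_of_reflects_iso _ (Over.forget S)
  exact ⟨inv (pr₁ i i') ≫ pr₂ i i', by rw [Category.assoc, ← MultEq.pr_condition, IsIso.inv_hom_id_assoc]⟩

end Groth.Agent.EqNhdComm
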