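import Groth.Agent.RedRankLib.Open
import Groth.Agent.MultHomLib.Free
import Groth.Agent.MonoLocusLib.Global
import Mathlib.AlgebraicGeometry.Sites.Fpqc
import Mathlib.LinearAlgebra.FreeModule.PID
import Mathlib.LinearAlgebra.Basis.VectorSpace

/-!
The image of a split torus in an arbitrary group over a field, and commuting pairs of tori.
-/

set_option autoImplicit false
set_option maxHeartbeats 800000

noncomputable section

universe u

open CategoryTheory CategoryTheory.Limits MonoidalCategory CartesianMonoidalCategory AlgebraicGeometry CoactBr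
open scoped MonObj TensorProduct

namespace Groth.Agent.EqNhdComm

open Groth.Agent.RedRank

attribute [local instance] CoactBr.braidedAlgSpecOf

variable {K : Type u} [Field K]

/-- Morphisms over an affine base are determined by their values on affine test objects. -/
theorem ext_affinePts {R : Type u} [CommRing R] {W G : Over (Spec (CommRingCat.of R))} {f g : W ⟶ G}
    (h : ∀ (B : Type u) [CommRing B] [Algebra R B] (w : sp R B ⟶ W), w ≫ f = w ≫ g) : f = g := by
  refine Over.OverMorphism.ext (Scheme.Cover.hom_ext W.left.affineCover _ _ fun x => ?_)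
  let B : Type u := Γ(W.left.affineCover.X x, ⊤)
  haveI : IsAffine (W.left.affineCover.X x) := inferInstanceAs (IsAffine (Spec _))
  let v : Spec (CommRingCat.of B) ⟶ W.left := (W.left.affineCover.X x).isoSpec.inv ≫ W.left.affineCover.f x
  obtain ⟨φ, hφ⟩ := Spec.map_surjective (v ≫ W.hom)
  letI : Algebra R B := φ.hom.toAlgebra
  let w : sp R B ⟶ W := Over.homMk v (by
    show v ≫ W.hom = Spec.map (CommRingCat.ofHom φ.hom)
    rw [CommRingCat.ofHom_hom]
    exact hφ.symm)
  have := congrArg CommaMorphism.left (h B w)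
  simp only [Over.comp_left] at this
  change v ≫ f.left = v ≫ g.left at this
  simpa [v] using this

/-- Distinct units which are group-like for some comultiplication are independent. -/
theorem eq_zero_of_sum_groupLike {Q : Type u} [CommRing Q] [Algebra K Q] (δ : Q →ₗ[K] Q ⊗[K] Q) (c : Q → K)
    (s : Finset Q) (hgl : ∀ q ∈ s, q ≠ 0 ∧ δ q = q ⊗ₜ[K] q) (h : ∑ q ∈ s, c q • q = 0) :
    ∀ q ∈ s, c q = 0 := by
  classical
  induction s using Finset.induction_on generalizing c with
  | empty => simp
  | @insert a s ha ih =>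
    have hs : ∀ q ∈ s, c q = 0 := by
      have h2 : ∀ f : Q →ₗ[K] K, ∀ q ∈ s, c q * (f q - f a) = 0 := fun f => by
        refine ih _ (fun q hq => hgl q (Finset.mem_insert_of_mem hq)) ?_
        let L : Q ⊗[K] Q →ₗ[K] Q := (TensorProduct.lid K Q).toLinearMap ∘ₗ LinearMap.rTensor Q f
        have h1 : ∑ q ∈ insert a s, (c q * f q) • q = 0 := by
          have := congrArg (L ∘ₗ δ) h
          rw [map_sum, map_zero] at this
          rw [← this]
          refine Finset.sum_congr rfl fun q hq => ?_
          rw [map_smul, LinearMap.comp_apply, (hgl q hq).2]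
          simp [L, mul_smul]
        have h0 := congrArg (f a • ·) h
        simp only [smul_zero, Finset.smul_sum, smul_smul] at h0
        rw [Finset.sum_insert ha] at h1 h0
        have e : ∀ q, (c q * (f q - f a)) • q = (c q * f q) • q - (f a * c q) • q := fun q => by
          rw [← sub_smul]; ring_nf
        simp only [e, Finset.sum_sub_distrib]
        rw [mul_comm (f a) (c a)] at h0
        exact (sub_eq_zero.2 (h1.trans h0.symm) |> fun t => by simpa [add_sub_add_left_eq_sub] using t)
      intro q hq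
      by_contra hc
      have hne : q - a ≠ 0 := sub_ne_zero.2 fun e => ha (e ▸ hq)
      obtain ⟨f, hf⟩ : ∃ f : Q →ₗ[K] K, f (q - a) ≠ 0 := by
        by_contra hall
        push Not at hall
        exact hne ((Module.forall_dual_apply_eq_zero_iff K (q - a)).1 hall)
      exact hf (by rw [map_sub]; exact (mul_eq_zero.1 (h2 f q hq)).resolve_left hc)
    intro q hq
    rcases Finset.mem_insert.1 hq with rfl | hq
    · rw [Finset.sum_insert ha, Finset.sum_eq_zero (fun x hx => by rw [hs x hx, zero_smul]), add_zero] at h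
      exact (smul_eq_zero.1 h).resolve_right (hgl _ (Finset.mem_insert_self _ _)).1
    · exact hs q hq

/-- The image of a homomorphism from a split torus is a split torus, with no hypothesis on the target. -/
theorem exists_image_torus {n : ℕ} {G : Over (Spec (CommRingCat.of K))} [GrpObj G] [LocallyOfFiniteType G.hom]
    (u : sp K (TA K n) ⟶ G) [IsMonHom u] :
    ∃ (r : ℕ) (p : sp K (TA K n) ⟶ sp K (TA K r)) (i : sp K (TA K r) ⟶ G),
      IsMonHom p ∧ IsMonHom i ∧ Mono i ∧ p ≫ i = u := by
  classical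
  haveI hη : IsClosedImmersion (η[G] : 𝟙_ (Over (Spec (CommRingCat.of K))) ⟶ G).left := inferInstance
  haveI hk : IsClosedImmersion (MonoLocus.kin u).left :=
    inferInstanceAs (IsClosedImmersion (pullback.fst u.left (η[G] : 𝟙_ (Over (Spec (CommRingCat.of K))) ⟶ G).left))
  obtain ⟨J, e, he⟩ := IsClosedImmersion.Spec_iff.1 hk
  -- points killed by the homomorphism
  have hker : ∀ (B : Type u) [CommRing B] [Algebra K B] (L : (TA K n) →ₐ[K] B), pt L ≫ u = 1 ↔ J ≤ RingHom.ker L := by
    intro B _ _ L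
    rw [MonoLocus.comp_eq_one_iff]
    constructor
    · rintro ⟨y, hy⟩
      obtain ⟨l, hl⟩ := Spec.map_surjective (y.left ≫ e.hom)
      have h1 : Spec.map l ≫ Spec.map (CommRingCat.ofHom (Ideal.Quotient.mk J)) =
          Spec.map (CommRingCat.ofHom L.toRingHom) := by
        rw [hl, Category.assoc]
        exact (congrArg (y.left ≫ ·) he.symm).trans ((congrArg CommaMorphism.left hy).trans (pt_left L))
      rw [← Spec.map_comp] at h1
      intro a ha
      have := congrArg (fun ψ => (ConcreteCategory.hom ψ) a) (Spec.map_injective h1)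
      rw [RingHom.mem_ker]
      exact this.symm.trans ((congrArg _ (Ideal.Quotient.eq_zero_iff_mem.2 ha)).trans (map_zero l.hom))
    · intro h
      let l : (sp K B).left ⟶ (MonoLocus.kob u).left :=
        Spec.map (CommRingCat.ofHom (Ideal.Quotient.lift J L.toRingHom (fun a ha => h ha))) ≫ e.inv
      have hl : l ≫ (MonoLocus.kin u).left = (pt L).left := by
        show (Spec.map _ ≫ e.inv) ≫ (MonoLocus.kin u).left = _
        rw [he]
        refine (Category.assoc _ _ _).trans ((congrArg (_ ≫ ·) (e.inv_hom_id_assoc _)).trans ?_)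
        refine (Spec.map_comp _ _).symm.trans ?_
        rw [pt_left]
        rfl
      exact ⟨Over.homMk l ((congrArg (l ≫ ·) (Over.w (MonoLocus.kin u)).symm).trans ((Category.assoc _ _ _).symm.trans ((congrArg (· ≫ (sp K (TA K n)).hom) hl).trans (Over.w (pt L))))),
        Over.OverMorphism.ext hl⟩
  -- the comultiplication descends to the kernel
  let Q : Type u := (TA K n) ⧸ J
  let qm : (TA K n) →ₐ[K] Q := Ideal.Quotient.mkₐ K J
  let cl : Multiplicative (Fin n → ℤ) →* Q := (qm : (TA K n) →* Q).comp (MonoidAlgebra.of K _)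
  have hcm : ∀ m, Bialgebra.comulAlgHom K (TA K n) (MonoidAlgebra.single m (1 : K)) =
      MonoidAlgebra.single m (1 : K) ⊗ₜ[K] MonoidAlgebra.single m (1 : K) := fun m =>
    (MonoidAlgebra.isGroupLikeElem_single_one (R := K) (A := K) m).comul_eq_tmul_self
  let δ₀ : (TA K n) →ₐ[K] Q ⊗[K] Q := ((Algebra.TensorProduct.map qm qm)).comp (Bialgebra.comulAlgHom K (TA K n))
  have hδ₀ : J ≤ RingHom.ker δ₀ := by
    let i₁ : Q →ₐ[K] Q ⊗[K] Q := Algebra.TensorProduct.includeLeft
    let i₂ : Q →ₐ[K] Q ⊗[K] Q := Algebra.TensorProduct.includeRight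
    refine (hker _ δ₀).1 ?_
    have hq : pt qm ≫ u = 1 := (hker _ qm).2 (Ideal.Quotient.mkₐ_ker K J).ge
    have hmul : pt δ₀ = (pt i₁ ≫ pt qm) * (pt i₂ ≫ pt qm) := by
      rw [← pt_comp, ← pt_comp, DiagRep.pt_mul_conv]
      congr 1
      refine MonoidAlgebra.algHom_ext (fun m => ?_) (Subsingleton.elim _ _)
      simp [δ₀, i₁, i₂, AlgHom.convMul_apply, qm, MonoidAlgebra.of_apply]
    rw [hmul, MultLift.hom_mul u, Category.assoc, Category.assoc, hq, MonObj.comp_one, MonObj.comp_one, mul_one]
  let δ : Q →ₐ[K] Q ⊗[K] Q := Ideal.Quotient.liftₐ J δ₀ hδ₀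
  have hgl : ∀ m, cl m ≠ 0 ∧ δ (cl m) = cl m ⊗ₜ[K] cl m := by
    intro m
    have hnt : Nontrivial Q := by
      refine Ideal.Quotient.nontrivial_iff.2 fun hJ => ?_
      have h1 := (hker K (Bialgebra.counitAlgHom K (TA K n))).1 (by
        rw [show pt (Bialgebra.counitAlgHom K (TA K n)) = (1 : sp K K ⟶ sp K (TA K n)) by
          rw [← DiagRep.pt_one]; congr 1]
        exact MonObj.one_comp u)
      rw [hJ] at h1
      simpa using h1 (x := (1 : (TA K n))) trivial
    refine ⟨((Group.isUnit m).map cl).ne_zero, ?_⟩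
    show δ₀ (MonoidAlgebra.single m 1) = _
    exact (congrArg _ (hcm m)).trans (Algebra.TensorProduct.map_tmul _ _ _ _)
  let N : AddSubgroup (Fin n → ℤ) :=
    { carrier := {v | cl (Multiplicative.ofAdd v) = 1}
      zero_mem' := map_one cl
      add_mem' := fun {a b} ha hb => by
        show cl (Multiplicative.ofAdd a * Multiplicative.ofAdd b) = 1
        rw [map_mul, show cl _ = 1 from ha, show cl _ = 1 from hb, one_mul]
      neg_mem' := fun {a} ha => by
        show cl (Multiplicative.ofAdd a)⁻¹ = 1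
        have := map_mul cl (Multiplicative.ofAdd a) (Multiplicative.ofAdd a)⁻¹
        rw [mul_inv_cancel, map_one, show cl (Multiplicative.ofAdd a) = 1 from ha, one_mul] at this
        exact this.symm }
  -- a point killing the subgroup of characters is killed
  have hN : ∀ (B : Type u) [CommRing B] [Algebra K B] (L : (TA K n) →ₐ[K] B),
      (∀ v ∈ N, L (MonoidAlgebra.single (Multiplicative.ofAdd v) 1) = 1) → J ≤ RingHom.ker L := by
    intro B _ _ L hL x hx
    let χ : Multiplicative (Fin n → ℤ) →* B := (L : (TA K n) →* B).comp (MonoidAlgebra.of K _)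
    have hconst : ∀ m m', cl m = cl m' → χ m = χ m' := by
      intro m m' h
      have h1 : (m * m'⁻¹).toAdd ∈ N := by
        show cl (m * m'⁻¹) = 1
        rw [map_mul, h, ← map_mul, mul_inv_cancel, map_one]
      have h2 : χ (m * m'⁻¹) = 1 := hL _ h1
      calc χ m = χ (m * m'⁻¹) * χ m' := by rw [← map_mul, inv_mul_cancel_right]
        _ = χ m' := by rw [h2, one_mul]
    let s := x.coeff.support
    let t := s.image cl
    let c : Q → K := fun q => ∑ m ∈ s.filter (fun m => cl m = q), x.coeff m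
    have hx' : ∑ m ∈ s, x.coeff m • (MonoidAlgebra.single m (1 : K)) = x := by
      conv_rhs => rw [← MonoidAlgebra.sum_coeff_single x]
      exact Finset.sum_congr rfl fun m _ => by simp [MonoidAlgebra.smul_single]
    have h0 : ∀ q ∈ t, c q = 0 := by
      refine eq_zero_of_sum_groupLike δ.toLinearMap c t (fun q hq => ?_) ?_
      · obtain ⟨m, -, rfl⟩ := Finset.mem_image.1 hq
        exact hgl m
      · have h1 : qm x = 0 := Ideal.Quotient.eq_zero_iff_mem.2 hx
        rw [← hx', map_sum] at h1
        rw [← h1, ← Finset.sum_fiberwise_of_maps_to (fun m hm => Finset.mem_image_of_mem cl hm)]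
        refine Finset.sum_congr rfl fun q _ => ?_
        rw [Finset.sum_smul]
        refine Finset.sum_congr rfl fun m hm => ?_
        rw [map_smul, ← (Finset.mem_filter.1 hm).2]
        rfl
    rw [RingHom.mem_ker, ← hx', map_sum, ← Finset.sum_fiberwise_of_maps_to (fun m hm => Finset.mem_image_of_mem cl hm)]
    refine Finset.sum_eq_zero fun q hq => ?_
    obtain ⟨m₀, hm₀, rfl⟩ := Finset.mem_image.1 hq
    have : ∀ m ∈ s.filter (fun m => cl m = cl m₀),
        L (x.coeff m • MonoidAlgebra.single m (1 : K)) = x.coeff m • χ m₀ := fun m hm => by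
      rw [map_smul, ← hconst m m₀ (Finset.mem_filter.1 hm).2]
      rfl
    rw [Finset.sum_congr rfl this, ← Finset.sum_smul]
    show c (cl m₀) • χ m₀ = 0
    rw [h0 _ hq, zero_smul]
  -- the quotient torus
  obtain ⟨r, ⟨bN⟩⟩ := Submodule.nonempty_basis_of_pid (Pi.basisFun ℤ (Fin n)) N.toIntSubmodule
  let φ : (Fin r → ℤ) →+ (Fin n → ℤ) :=
    (N.toIntSubmodule.subtype.comp bN.equivFun.symm.toLinearMap).toAddMonoidHom
  have hφ : Function.Injective φ := Subtype.val_injective.comp bN.equivFun.symm.injective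
  have hφN : ∀ v ∈ N, ∃ c, φ c = v := fun v hv => ⟨bN.equivFun ⟨v, hv⟩, by simp [φ]⟩
  let p : sp K (TA K n) ⟶ sp K (TA K r) := pt (tMap (k := K) φ)
  haveI hpm : IsMonHom p := isMonHom_tMap φ
  have hff := MultHom.faithfullyFlat_mapDomain (R := K) φ.toMultiplicative hφ
  haveI : Flat p.left := by
    show Flat (Spec.map _)
    rw [Flat.SpecMap_iff]
    exact hff.flat
  haveI : Surjective p.left := by
    show Surjective (Spec.map _)
    exact ⟨(RingHom.FaithfullyFlat.iff_flat_and_comap_surjective.1 hff).2⟩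
  haveI : QuasiCompact p.left := by
    show QuasiCompact (Spec.map _)
    infer_instance
  have hp1 : ∀ {W : Over (Spec (CommRingCat.of K))} (x : W ⟶ sp K (TA K n)), x ≫ p = 1 → x ≫ u = 1 := by
    intro W x hx
    refine ext_affinePts fun B _ _ w => ?_
    obtain ⟨L, hL⟩ := DiagRep.exists_pt (w ≫ x)
    rw [MonObj.comp_one, ← Category.assoc, hL]
    refine (hker B L).2 (hN B L fun v hv => ?_)
    obtain ⟨c, rfl⟩ := hφN v hv
    have h1 : pt (L.comp (tMap φ)) = pt ((Algebra.ofId K B).comp (Bialgebra.counitAlgHom K (TA K r))) := by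
      rw [pt_comp, ← hL, Category.assoc, hx, MonObj.comp_one, DiagRep.pt_one]
    have h2 := DFunLike.congr_fun (pt_injective h1) (MonoidAlgebra.single (Multiplicative.ofAdd c) 1)
    simpa using h2
  have hp2 : ∀ {W : Over (Spec (CommRingCat.of K))} (x : W ⟶ sp K (TA K n)), x ≫ u = 1 → x ≫ p = 1 := by
    intro W x hx
    refine ext_affinePts fun B _ _ w => ?_
    obtain ⟨L, hL⟩ := DiagRep.exists_pt (w ≫ x)
    have hJ : J ≤ RingHom.ker L := (hker B L).1 (by rw [← hL, Category.assoc, hx, MonObj.comp_one])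
    rw [MonObj.comp_one, ← Category.assoc, hL, ← pt_comp, ← DiagRep.pt_one]
    congr 1
    refine MonoidAlgebra.algHom_ext (fun m => ?_) (Subsingleton.elim _ _)
    obtain ⟨c, rfl⟩ := Multiplicative.ofAdd.surjective m
    have hc : φ c ∈ N := (bN.equivFun.symm c).2
    have h1 : MonoidAlgebra.single (Multiplicative.ofAdd (φ c)) (1 : K) - 1 ∈ J := by
      rw [← Ideal.Quotient.eq_zero_iff_mem, map_sub, map_one]
      exact sub_eq_zero.2 hc
    have h2 : L (MonoidAlgebra.single (Multiplicative.ofAdd (φ c)) 1) = 1 := by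
      have := hJ h1
      rw [RingHom.mem_ker, map_sub, map_one, sub_eq_zero] at this
      exact this
    simpa [tMap_single] using h2
  have hdiv : ∀ {W : Over (Spec (CommRingCat.of K))} (x y : W ⟶ sp K (TA K n)), x ≫ p = y ≫ p → x ≫ u = y ≫ u := by
    intro W x y h
    have h1 : (x * y⁻¹) ≫ p = 1 := by
      haveI : IsMonHom (M := sp K (TA K n)) (pt (tMap (k := K) φ)) := isMonHom_tMap φ
      show (x * y⁻¹) ≫ pt (tMap (k := K) φ) = 1
      change x ≫ pt (tMap (k := K) φ) = y ≫ pt (tMap (k := K) φ) at h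
      exact ((@MonObj.mul_comp _ _ _ _ _ _ _ _ x y⁻¹ (pt (tMap (k := K) φ)) (isMonHom_tMap φ)).trans
        (congrArg₂ (· * ·) h (GrpObj.inv_comp y (pt (tMap (k := K) φ))))).trans (mul_inv_cancel _)
    have h2 := hp1 _ h1
    rwa [MultLift.hom_mul u, GrpObj.inv_comp, mul_inv_eq_one] at h2
  have hcond : ∀ {Z : Scheme.{u}} (g₁ g₂ : Z ⟶ (sp K (TA K n)).left), g₁ ≫ p.left = g₂ ≫ p.left →
      g₁ ≫ u.left = g₂ ≫ u.left := by
    intro Z g₁ g₂ hg
    let W : Over (Spec (CommRingCat.of K)) := Over.mk (g₁ ≫ (sp K (TA K n)).hom)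
    let x : W ⟶ sp K (TA K n) := Over.homMk g₁ rfl
    let y : W ⟶ sp K (TA K n) := Over.homMk g₂ (by
      show g₂ ≫ (sp K (TA K n)).hom = g₁ ≫ (sp K (TA K n)).hom
      rw [← Over.w p, ← Category.assoc, ← hg, Category.assoc])
    exact congrArg CommaMorphism.left (hdiv x y (Over.OverMorphism.ext hg))
  let il : (sp K (TA K r)).left ⟶ G.left := EffectiveEpi.desc p.left u.left hcond
  have hil : p.left ≫ il = u.left := EffectiveEpi.fac p.left u.left hcond
  let i : sp K (TA K r) ⟶ G := Over.homMk il (by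
    rw [← cancel_epi p.left, ← Category.assoc, hil, Over.w u]
    exact (Over.w p).symm)
  have hpi : p ≫ i = u := Over.OverMorphism.ext hil
  have hpp : Epi (p ⊗ₘ p) := by
    let Q₀ : MorphismProperty Scheme.{u} := @Surjective ⊓ @Flat ⊓ @QuasiCompact
    have h : Q₀ p.left := ⟨⟨‹_›, ‹_›⟩, ‹_›⟩
    have h2 : Q₀ (p ⊗ₘ p).left := by
      rw [Over.tensorHom_left]
      exact MorphismProperty.pullback_map h h (Over.w p).symm (Over.w p).symm
    haveI : Surjective (p ⊗ₘ p).left := h2.1.1
    haveI : Flat (p ⊗ₘ p).left := h2.1.2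
    haveI : QuasiCompact (p ⊗ₘ p).left := h2.2
    exact Over.epi_of_epi_left _
  haveI : Epi p := Over.epi_of_epi_left _
  haveI him : IsMonHom i := by
    constructor
    · rw [← IsMonHom.one_hom (f := p), Category.assoc, hpi, IsMonHom.one_hom]
    · rw [← cancel_epi (p ⊗ₘ p), ← Category.assoc, ← IsMonHom.mul_hom (f := p), Category.assoc, hpi,
        ← Category.assoc, tensorHom_comp_tensorHom, hpi, IsMonHom.mul_hom]
  refine ⟨r, p, i, hpm, him, ⟨fun {W} a b hab => ?_⟩, hpi⟩
  have hc : (a * b⁻¹) ≫ i = 1 := by rw [MultLift.hom_mul i, GrpObj.inv_comp, hab, mul_inv_cancel]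
  let W' : Over (Spec (CommRingCat.of K)) := Over.mk (pullback.fst (a * b⁻¹).left p.left ≫ W.hom)
  let q : W' ⟶ W := Over.homMk (pullback.fst (a * b⁻¹).left p.left) rfl
  let x : W' ⟶ sp K (TA K n) := Over.homMk (pullback.snd (a * b⁻¹).left p.left) (by
    show pullback.snd _ _ ≫ (sp K (TA K n)).hom = pullback.fst _ _ ≫ W.hom
    rw [← Over.w p, ← pullback.condition_assoc, Over.w (a * b⁻¹)])
  have hx : x ≫ p = q ≫ (a * b⁻¹) := Over.OverMorphism.ext pullback.condition.symm
  haveI : Epi q.left := by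
    show Epi (pullback.fst (a * b⁻¹).left p.left)
    exact Flat.epi_of_flat_of_surjective _
  haveI : Epi q := Over.epi_of_epi_left _
  have hxu : x ≫ u = 1 := by rw [← hpi, ← Category.assoc, hx, Category.assoc, hc, MonObj.comp_one]
  rw [← mul_inv_eq_one, ← cancel_epi q, ← hx, hp2 x hxu, MonObj.comp_one]

/-- Two commuting tori lie in a third one. -/
theorem exists_join {G : Over (Spec (CommRingCat.of K))} [GrpObj G] [LocallyOfFiniteType G.hom] {a b : ℕ} (i₁ : sp K (TA K a) ⟶ G) [IsMonHom i₁] (i₂ : sp K (TA K b) ⟶ G) [IsMonHom i₂]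
    (hc : ∀ {Z : Over (Spec (CommRingCat.of K))} (x : Z ⟶ sp K (TA K a)) (y : Z ⟶ sp K (TA K b)),
      (x ≫ i₁) * (y ≫ i₂) = (y ≫ i₂) * (x ≫ i₁)) :
    ∃ (r : ℕ) (i : sp K (TA K r) ⟶ G) (p₁ : sp K (TA K a) ⟶ sp K (TA K r)) (p₂ : sp K (TA K b) ⟶ sp K (TA K r)),
      IsMonHom i ∧ Mono i ∧ IsMonHom p₁ ∧ IsMonHom p₂ ∧ p₁ ≫ i = i₁ ∧ p₂ ≫ i = i₂ := by
  let inl : (Fin a → ℤ) →+ (Fin (a + b) → ℤ) :=
    { toFun := fun v => Fin.append v 0
      map_zero' := funext fun j => by refine Fin.addCases (fun i => ?_) (fun i => ?_) j <;> simp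
      map_add' := fun v w => funext fun j => by refine Fin.addCases (fun i => ?_) (fun i => ?_) j <;> simp }
  let inr : (Fin b → ℤ) →+ (Fin (a + b) → ℤ) :=
    { toFun := fun v => Fin.append 0 v
      map_zero' := funext fun j => by refine Fin.addCases (fun i => ?_) (fun i => ?_) j <;> simp
      map_add' := fun v w => funext fun j => by refine Fin.addCases (fun i => ?_) (fun i => ?_) j <;> simp }
  let res₁ : (Fin (a + b) → ℤ) →+ (Fin a → ℤ) :=
    { toFun := fun v i => v (Fin.castAdd b i), map_zero' := rfl, map_add' := fun _ _ => rfl }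
  let res₂ : (Fin (a + b) → ℤ) →+ (Fin b → ℤ) :=
    { toFun := fun v i => v (Fin.natAdd a i), map_zero' := rfl, map_add' := fun _ _ => rfl }
  haveI := isMonHom_tMap (k := K) inl
  haveI := isMonHom_tMap (k := K) inr
  haveI := isMonHom_tMap (k := K) res₁
  haveI := isMonHom_tMap (k := K) res₂
  let u : sp K (TA K (a + b)) ⟶ G := (pt (tMap (k := K) inl) ≫ i₁) * (pt (tMap (k := K) inr) ≫ i₂)
  haveI : IsMonHom u := isMonHom_of_mul (X := sp K (TA K (a + b))) (Y := G) u fun Z x y => by
    simp only [u, MonObj.comp_mul]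
    rw [MultLift.hom_mul (pt (tMap (k := K) inl) ≫ i₁), MultLift.hom_mul (pt (tMap (k := K) inr) ≫ i₂)]
    have h := hc (y ≫ pt (tMap (k := K) inl)) (x ≫ pt (tMap (k := K) inr))
    rw [Category.assoc, Category.assoc] at h
    exact Commute.mul_mul_mul_comm h _ _
  obtain ⟨r, p, i, hp, hi, hm, hpi⟩ := exists_image_torus u
  haveI := hp; haveI := hi; haveI := hm
  have e₁ : pt (tMap (k := K) res₁) ≫ u = i₁ := by
    rw [MonObj.comp_mul, ← Category.assoc, ← Category.assoc, ← pt_comp, ← pt_comp, tMap_comp, tMap_comp,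
      show res₁.comp inl = AddMonoidHom.id _ from AddMonoidHom.ext fun v => funext fun j => by simp [res₁, inl],
      show res₁.comp inr = 0 from AddMonoidHom.ext fun v => funext fun j => by simp [res₁, inr],
      tMap_id, pt_id, Category.id_comp, ← one_eq_tMap, MonObj.one_comp, _root_.mul_one]
  have e₂ : pt (tMap (k := K) res₂) ≫ u = i₂ := by
    rw [MonObj.comp_mul, ← Category.assoc, ← Category.assoc, ← pt_comp, ← pt_comp, tMap_comp, tMap_comp,
      show res₂.comp inl = 0 from AddMonoidHom.ext fun v => funext fun j => by simp [res₂, inl],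
      show res₂.comp inr = AddMonoidHom.id _ from AddMonoidHom.ext fun v => funext fun j => by simp [res₂, inr],
      tMap_id, pt_id, Category.id_comp, ← one_eq_tMap, MonObj.one_comp, _root_.one_mul]
  exact ⟨r, i, pt (tMap (k := K) res₁) ≫ p, pt (tMap (k := K) res₂) ≫ p, hi, hm, inferInstance, inferInstance,
    by rw [Category.assoc, hpi, e₁], by rw [Category.assoc, hpi, e₂]⟩

end Groth.Agent.EqNhdComm
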