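import Groth.Agent.EqNhdLib.Open

/-!
Rigidity for two commuting subgroups of multiplicative type.
-/

set_option autoImplicit false
set_option backward.isDefEq.respectTransparency false

noncomputable section

universe u

open CategoryTheory CategoryTheory.Limits MonoidalCategory CartesianMonoidalCategory AlgebraicGeometry CoactBr
open scoped MonObj TensorProduct

namespace Groth.Agent.EqNhdComm

open Groth.Agent.EqNhd

open Groth.Agent.FreeAct (DA bas bas_apply)

attribute [local instance] CoactBr.braidedAlgSpecOf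

variable {R : Type u} [CommRing R] {N : Type} [AddCommGroup N] {G : Over (Spec (CommRingCat.of R))} [GrpObj G]
variable (V : Chart R G) (a b : PtHom R N G) {J P : Ideal R}

include V in
/-- Two commuting homomorphisms equal modulo `J` are equal modulo `P * J`. -/
theorem eq_of_sq (hJP : J ≤ P)
    (hcomm : ∀ (A : Type u) [CommRing A] [Algebra R A] (χ χ' : Multiplicative N →* A),
      a.ev A χ * b.ev A χ' = b.ev A χ' * a.ev A χ)
    (heq : ∀ (A : Type u) [CommRing A] [Algebra R A], J ≤ RingHom.ker (algebraMap R A) →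
      ∀ χ : Multiplicative N →* A, a.ev A χ = b.ev A χ)
    (A : Type u) [CommRing A] [Algebra R A] (hA : P * J ≤ RingHom.ker (algebraMap R A))
    (χ : Multiplicative N →* A) : a.ev A χ = b.ev A χ := by
  -- the difference is the unit modulo the ideal
  have hmod : ∀ (B : Type u) [CommRing B] [Algebra R B] (ψ : Multiplicative N →* B),
      pt (Ideal.Quotient.mkₐ R (J.map (algebraMap R B))) ≫ (a.ev B ψ * (b.ev B ψ)⁻¹) = 1 := by
    intro B _ _ ψ
    rw [PtHom.mul_inv_natural, mul_inv_eq_one]
    exact heq (B ⧸ J.map (algebraMap R B))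
      (fun r hr => Ideal.Quotient.eq_zero_iff_mem.2 (Ideal.mem_map_of_mem (algebraMap R B) hr)) _
  have hkey : ∀ (B : Type u) [CommRing B] [Algebra R B], P * J ≤ RingHom.ker (algebraMap R B) →
      ∀ ψ : Multiplicative N →* B, ∃ L : V.ring →ₐ[R] B, pt L ≫ V.hom = a.ev B ψ * (b.ev B ψ)⁻¹ ∧
        ∀ x, V.eps B x - L x ∈ J.map (algebraMap R B) := by
    intro B _ _ hB ψ
    have hJ2 : (J.map (algebraMap R B)) ^ 2 = ⊥ := by
      rw [← Ideal.map_pow, pow_two, eq_bot_iff, Ideal.map_le_iff_le_comap]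
      exact (Ideal.mul_mono_left hJP).trans hB
    have hker : RingHom.ker (Ideal.Quotient.mkₐ R (J.map (algebraMap R B))).toRingHom = J.map (algebraMap R B) :=
      Ideal.Quotient.mkₐ_ker R _
    obtain ⟨L, hL, hL'⟩ := V.exists_factor (Ideal.Quotient.mkₐ R (J.map (algebraMap R B))) Ideal.Quotient.mk_surjective
      ⟨2, by rw [hker, hJ2]; rfl⟩ _ (hmod B ψ)
    refine ⟨L, hL, fun x => ?_⟩
    rw [← Ideal.Quotient.eq]
    exact ((DFunLike.congr_fun hL' x).trans
      (DFunLike.congr_fun (V.comp_eps (Ideal.Quotient.mkₐ R (J.map (algebraMap R B)))) x).symm).symm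
  have hdmul : ∀ (B : Type u) [CommRing B] [Algebra R B], P * J ≤ RingHom.ker (algebraMap R B) →
      ∀ ψ ψ' : Multiplicative N →* B,
        a.ev B (ψ * ψ') * (b.ev B (ψ * ψ'))⁻¹ =
          (a.ev B ψ' * (b.ev B ψ')⁻¹) * (a.ev B ψ * (b.ev B ψ)⁻¹) := by
    intro B _ _ hB ψ ψ'
    have hc : a.ev B ψ * (a.ev B ψ' * (b.ev B ψ')⁻¹) = (a.ev B ψ' * (b.ev B ψ')⁻¹) * a.ev B ψ := by
      have h1 : Commute (a.ev B ψ) (a.ev B ψ') := by
        show _ = _
        rw [← a.ev_mul, ← a.ev_mul, mul_comm]
      exact (h1.mul_right (Commute.inv_right (hcomm B ψ ψ'))).eq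
    rw [a.ev_mul, b.ev_mul, mul_inv_rev, ← mul_assoc (a.ev B ψ' * _) (a.ev B ψ), ← hc]
    simp only [mul_assoc]
  -- reduction to the universal character
  let R₀ : Type u := R ⧸ (P * J)
  let B₁ : Type u := MonoidAlgebra R₀ (Multiplicative N)
  let B₂ : Type u := MonoidAlgebra R₀ (Multiplicative N × Multiplicative N)
  have hB₁ : P * J ≤ RingHom.ker (algebraMap R B₁) := fun r hr => by
    rw [RingHom.mem_ker, IsScalarTower.algebraMap_apply R R₀ B₁,
      show algebraMap R R₀ r = 0 from Ideal.Quotient.eq_zero_iff_mem.2 hr, map_zero]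
  have hB₂ : P * J ≤ RingHom.ker (algebraMap R B₂) := fun r hr => by
    rw [RingHom.mem_ker, IsScalarTower.algebraMap_apply R R₀ B₂,
      show algebraMap R R₀ r = 0 from Ideal.Quotient.eq_zero_iff_mem.2 hr, map_zero]
  let u₁ : Multiplicative N →* B₁ := MonoidAlgebra.of R₀ (Multiplicative N)
  obtain ⟨L, hL, hLJ⟩ := hkey B₁ hB₁ u₁
  let f : (Multiplicative N →* Multiplicative N × Multiplicative N) → (B₁ →ₐ[R] B₂) := fun φ =>
    (MonoidAlgebra.mapDomainAlgHom R₀ R₀ φ).restrictScalars R
  have hf : ∀ φ, pt ((f φ).comp L) ≫ V.hom = a.ev B₂ ((MonoidAlgebra.of R₀ _).comp φ) *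
      (b.ev B₂ ((MonoidAlgebra.of R₀ _).comp φ))⁻¹ := fun φ => by
    have e : (f φ).toRingHom.toMonoidHom.comp u₁ = (MonoidAlgebra.of R₀ _).comp φ :=
      MonoidHom.ext fun m => by
        show MonoidAlgebra.mapDomainAlgHom R₀ R₀ φ (MonoidAlgebra.single m (1 : R₀)) = MonoidAlgebra.single (φ m) 1
        simp
    rw [pt_comp, Category.assoc, hL, PtHom.mul_inv_natural, e]
  have hprod : ((MonoidAlgebra.of R₀ _).comp ((MonoidHom.id (Multiplicative N)).prod (MonoidHom.id _)) :
      Multiplicative N →* B₂) = (MonoidAlgebra.of R₀ _).comp (MonoidHom.inl _ _) *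
        (MonoidAlgebra.of R₀ _).comp (MonoidHom.inr _ _) := MonoidHom.ext fun m => by
    simp [MonoidAlgebra.single_mul_single]
  let J₂ := J.map (algebraMap R B₂)
  have hmemf : ∀ φ x, V.eps B₂ x - f φ (L x) ∈ J₂ := fun φ x => by
    have h1 := Ideal.mem_map_of_mem (f φ).toRingHom (hLJ x)
    rw [Ideal.map_map, show (f φ).toRingHom.comp (algebraMap R B₁) = algebraMap R B₂ from (f φ).comp_algebraMap] at h1
    have he : f φ (V.eps B₁ x) = V.eps B₂ x := DFunLike.congr_fun (V.comp_eps (f φ)) x
    simp only [AlgHom.toRingHom_eq_coe, RingHom.coe_coe, map_sub, he] at h1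
    exact h1
  have hJ₂ : J₂ ^ 2 = ⊥ := by
    rw [← Ideal.map_pow, pow_two, eq_bot_iff, Ideal.map_le_iff_le_comap]
    exact (Ideal.mul_mono_left hJP).trans hB₂
  obtain ⟨L'', hL'', hsum⟩ := chart_mul V hJ₂ _ _ ((f (MonoidHom.inr _ _)).comp L) ((f (MonoidHom.inl _ _)).comp L)
    (hf _) (hf _) (hmemf _) (hmemf _)
  have hΔ : (f ((MonoidHom.id _).prod (MonoidHom.id _))).comp L = L'' := V.hom_injective (by
    rw [hf, hprod, hdmul B₂ hB₂, hL''])
  have hE : ∀ x, L x = V.eps B₁ x := fun x => by
    refine sub_eq_zero.1 (eq_zero_of_primitive _ ?_)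
    have h1 : f ((MonoidHom.id _).prod (MonoidHom.id _)) (L x) = L'' x := DFunLike.congr_fun hΔ x
    have he : ∀ φ, f φ (V.eps B₁ x) = V.eps B₂ x := fun φ => DFunLike.congr_fun (V.comp_eps (f φ)) x
    show f _ (L x - V.eps B₁ x) = f _ (L x - V.eps B₁ x) + f _ (L x - V.eps B₁ x)
    rw [map_sub, map_sub, map_sub, h1, hsum, he, he, he]
    show f _ (L x) + f _ (L x) - _ - _ = _
    abel
  have h1 : a.ev B₁ u₁ = b.ev B₁ u₁ := by
    rw [← mul_inv_eq_one, ← hL, show L = V.eps B₁ from AlgHom.ext hE, V.pt_eps]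
  -- an arbitrary character comes from the universal one
  let g : R₀ →ₐ[R] A := Ideal.Quotient.liftₐ (P * J) (Algebra.ofId R A) hA
  letI : Algebra R₀ A := g.toRingHom.toAlgebra
  haveI : IsScalarTower R R₀ A := IsScalarTower.of_algebraMap_eq fun r => (g.commutes r).symm
  let l : B₁ →ₐ[R] A := (MonoidAlgebra.lift R₀ A (Multiplicative N) χ).restrictScalars R
  have e : l.toRingHom.toMonoidHom.comp u₁ = χ := MonoidHom.ext fun m => by 
    show MonoidAlgebra.lift R₀ A (Multiplicative N) χ (MonoidAlgebra.single m (1 : R₀)) = χ m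
    simp
  rw [← e, ← a.ev_comp, ← b.ev_comp, h1]

variable [IsLocalRing R]

include V in
/-- For a finite group of characters equality on the closed fibre gives equality. -/
theorem eq_of_finite [Finite N] (hfp : EqFP a b)
    (hcomm : ∀ (A : Type u) [CommRing A] [Algebra R A] (χ χ' : Multiplicative N →* A),
      a.ev A χ * b.ev A χ' = b.ev A χ' * a.ev A χ)
    (heq : ∀ (A : Type u) [CommRing A] [Algebra R A], IsLocalRing.maximalIdeal R ≤ RingHom.ker (algebraMap R A) →
      ∀ χ : Multiplicative N →* A, a.ev A χ = b.ev A χ)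
    (B : Type u) [CommRing B] [Algebra R B] (χ : Multiplicative N →* B) : a.ev B χ = b.ev B χ := by
  classical
  let m := IsLocalRing.maximalIdeal R
  let A : Type u := DA R N
  let bA := MonoidAlgebra.basis (Multiplicative N) R
  haveI : Module.Finite R A := Module.Finite.of_basis bA
  let u₁ : Multiplicative N →* A := MonoidAlgebra.of R (Multiplicative N)
  obtain ⟨E, e, himm, hlfp, hiff⟩ := hfp A u₁
  haveI := himm
  have hmax : ∀ t : PrimeSpectrum A, t.asIdeal.IsMaximal → t ∈ Set.range e := by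
    intro t ht
    let L : A →ₐ[R] t.asIdeal.ResidueField := IsScalarTower.toAlgHom R A t.asIdeal.ResidueField
    have hm : m ≤ RingHom.ker (algebraMap R t.asIdeal.ResidueField) := fun r hr => by
      rw [RingHom.mem_ker, IsScalarTower.algebraMap_apply R A, ← RingHom.mem_ker,
        Ideal.ker_algebraMap_residueField]
      exact map_maximalIdeal_le t.asIdeal (Ideal.mem_map_of_mem _ hr)
    obtain ⟨l, hl⟩ := (hiff _ L).1 (by rw [a.ev_comp, b.ev_comp]; exact heq _ hm _)
    refine ⟨l (IsLocalRing.closedPoint t.asIdeal.ResidueField), ?_⟩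
    rw [← Scheme.Hom.comp_apply, hl]
    show PrimeSpectrum.comap (algebraMap A t.asIdeal.ResidueField) _ = t
    refine PrimeSpectrum.ext ?_
    show Ideal.comap (algebraMap A t.asIdeal.ResidueField) (IsLocalRing.maximalIdeal _) = t.asIdeal
    rw [IsLocalRing.maximalIdeal_eq_bot]
    exact Ideal.ker_algebraMap_residueField _
  haveI := isClosedImmersion_of_maximal e hmax
  obtain ⟨I, hIfg, hI⟩ := exists_ideal_factor e
  obtain ⟨gens, hgens⟩ := hIfg hlfp
  have hcrit : ∀ (T : Type u) [CommRing T] [Algebra R T] (L : A →ₐ[R] T),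
      pt L ≫ a.ev A u₁ = pt L ≫ b.ev A u₁ ↔ I ≤ RingHom.ker L.toRingHom := fun T _ _ L =>
    (hiff T L).trans (hI T L.toRingHom)
  have huniv : ∀ (T : Type u) [CommRing T] [Algebra R T] (ψ : Multiplicative N →* T),
      a.ev T ψ = b.ev T ψ ↔ I ≤ RingHom.ker (MonoidAlgebra.lift R T (Multiplicative N) ψ).toRingHom := by
    intro T _ _ ψ
    have e : (MonoidAlgebra.lift R T (Multiplicative N) ψ).toRingHom.toMonoidHom.comp u₁ = ψ :=
      MonoidHom.ext fun j => by
        show MonoidAlgebra.lift R T (Multiplicative N) ψ (MonoidAlgebra.single j (1 : R)) = ψ j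
        simp
    rw [← hcrit, a.ev_comp, b.ev_comp, e]
  let J : Ideal R := Ideal.span (↑(gens.biUnion fun x => (bA.repr x).support.image fun j => bA.repr x j) : Set R)
  have hIJ : ∀ K : Ideal R, I ≤ K.map (algebraMap R A) ↔ J ≤ K := by
    intro K
    rw [← hgens]
    show Submodule.span A _ ≤ _ ↔ Ideal.span _ ≤ _
    rw [Submodule.span_le, Ideal.span_le]
    constructor
    · intro h r hr
      obtain ⟨x, hx, hj⟩ := Finset.mem_biUnion.1 hr
      obtain ⟨j, -, rfl⟩ := Finset.mem_image.1 hj
      exact repr_mem (h hx) j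
    · intro h x hx
      refine mem_map_of_repr fun j => ?_
      by_cases hj : j ∈ (bA.repr x).support
      · exact h (Finset.mem_coe.2 (Finset.mem_biUnion.2 ⟨x, hx, Finset.mem_image.2 ⟨j, hj, rfl⟩⟩))
      · rw [Finsupp.notMem_support_iff.1 hj]
        exact zero_mem _
  have hquot : ∀ K : Ideal R,
      a.ev (A ⧸ K.map (algebraMap R A)) ((Ideal.Quotient.mkₐ R (K.map (algebraMap R A))).toRingHom.toMonoidHom.comp u₁) =
        b.ev (A ⧸ K.map (algebraMap R A))
          ((Ideal.Quotient.mkₐ R (K.map (algebraMap R A))).toRingHom.toMonoidHom.comp u₁) ↔ J ≤ K := by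
    intro K
    rw [← a.ev_comp, ← b.ev_comp, hcrit, ← hIJ]
    rw [show RingHom.ker (Ideal.Quotient.mkₐ R (K.map (algebraMap R A))).toRingHom = K.map (algebraMap R A) from
      Ideal.Quotient.mkₐ_ker R _]
  have hJm : J ≤ m := (hquot m).1 (heq (A ⧸ m.map (algebraMap R A)) (le_ker_quot _) _)
  have hJeq : ∀ (T : Type u) [CommRing T] [Algebra R T], J ≤ RingHom.ker (algebraMap R T) →
      ∀ ψ : Multiplicative N →* T, a.ev T ψ = b.ev T ψ := by
    intro T _ _ hT ψ
    rw [huniv]
    refine ((hIJ J).2 le_rfl).trans (Ideal.map_le_iff_le_comap.2 fun r hr => ?_)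
    show MonoidAlgebra.lift R T (Multiplicative N) ψ (algebraMap R A r) = 0
    rw [AlgHom.commutes]
    exact hT hr
  have hmJ : J ≤ m * J := (hquot (m * J)).1 (eq_of_sq V a b hJm hcomm hJeq (A ⧸ (m * J).map (algebraMap R A)) (le_ker_quot _) _)
  have hJbot : J = ⊥ := Submodule.eq_bot_of_le_smul_of_le_jacobson_bot m J ⟨_, rfl⟩ hmJ
    (IsLocalRing.maximalIdeal_le_jacobson _)
  exact hJeq B (hJbot ▸ bot_le) χ

variable [AddGroup.FG N]

include V in
/-- Two commuting homomorphisms equal on the closed fibre agree near it. -/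
theorem exists_open_eq (hfp : EqFP a b)
    (hcomm : ∀ (A : Type u) [CommRing A] [Algebra R A] (χ χ' : Multiplicative N →* A),
      a.ev A χ * b.ev A χ' = b.ev A χ' * a.ev A χ)
    (heq : ∀ (A : Type u) [CommRing A] [Algebra R A], IsLocalRing.maximalIdeal R ≤ RingHom.ker (algebraMap R A) →
      ∀ χ : Multiplicative N →* A, a.ev A χ = b.ev A χ) :
    ∃ g : DA R N, g - 1 ∈ (IsLocalRing.maximalIdeal R).map (algebraMap R (DA R N)) ∧
      a.ev (Localization.Away g) ((algebraMap (DA R N) (Localization.Away g)).toMonoidHom.comp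
          (MonoidAlgebra.of R (Multiplicative N))) =
        b.ev (Localization.Away g) ((algebraMap (DA R N) (Localization.Away g)).toMonoidHom.comp
          (MonoidAlgebra.of R (Multiplicative N))) := by
  classical
  let m := IsLocalRing.maximalIdeal R
  let A : Type u := DA R N
  let mA : Ideal A := m.map (algebraMap R A)
  let u₁ : Multiplicative N →* A := MonoidAlgebra.of R (Multiplicative N)
  obtain ⟨E, e, himm, -, hiff⟩ := hfp A u₁
  haveI := himm
  have hfib : ∀ t : PrimeSpectrum A, mA ≤ t.asIdeal → t ∈ Set.range e := by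
    intro t ht
    let L : A →ₐ[R] t.asIdeal.ResidueField := IsScalarTower.toAlgHom R A t.asIdeal.ResidueField
    have hm : m ≤ RingHom.ker (algebraMap R t.asIdeal.ResidueField) := fun r hr => by
      rw [RingHom.mem_ker, IsScalarTower.algebraMap_apply R A, ← RingHom.mem_ker,
        Ideal.ker_algebraMap_residueField]
      exact ht (Ideal.mem_map_of_mem _ hr)
    obtain ⟨l, hl⟩ := (hiff _ L).1 (by rw [a.ev_comp, b.ev_comp]; exact heq _ hm _)
    refine ⟨l (IsLocalRing.closedPoint t.asIdeal.ResidueField), ?_⟩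
    rw [← Scheme.Hom.comp_apply, hl]
    refine PrimeSpectrum.ext ?_
    show Ideal.comap (algebraMap A t.asIdeal.ResidueField) (IsLocalRing.maximalIdeal _) = t.asIdeal
    rw [IsLocalRing.maximalIdeal_eq_bot]
    exact Ideal.ker_algebraMap_residueField _
  -- a basic open inside the open where the equaliser is closed
  have hopen : IsOpen (coborder (Set.range e)) := e.isLocallyClosed_range.isOpen_coborder
  obtain ⟨K, hK⟩ := (PrimeSpectrum.isClosed_iff_zeroLocus_ideal _).1 hopen.isClosed_compl
  have htop : K ⊔ mA = ⊤ := by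
    by_contra hne
    obtain ⟨𝔪, h𝔪, hle⟩ := Ideal.exists_le_maximal _ hne
    have h1 : (⟨𝔪, h𝔪.isPrime⟩ : PrimeSpectrum A) ∈ (coborder (Set.range e))ᶜ :=
      (Set.ext_iff.1 hK ⟨𝔪, h𝔪.isPrime⟩).2 (show (K : Set A) ⊆ 𝔪 from fun a ha => hle (Ideal.mem_sup_left ha))
    exact h1 (subset_coborder (hfib _ (le_sup_right.trans hle)))
  obtain ⟨g, hg, z, hz, hgz⟩ := Submodule.mem_sup.1 ((Ideal.eq_top_iff_one _).1 htop)
  have hgA : g - 1 ∈ mA := by
    rw [← hgz, sub_add_cancel_left]
    exact neg_mem hz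
  refine ⟨g, hgA, ?_⟩
  let Ag : Type u := Localization.Away g
  let j : Spec (CommRingCat.of Ag) ⟶ Spec (CommRingCat.of A) := Spec.map (CommRingCat.ofHom (algebraMap A Ag))
  let e' := pullback.snd e j
  have hsub : ∀ t, j t ∈ coborder (Set.range e) := fun t => by
    by_contra hn
    have h1 : j t ∈ PrimeSpectrum.zeroLocus (K : Set A) := (Set.ext_iff.1 hK (j t)).1 hn
    have h2 : algebraMap A Ag g ∈ (PrimeSpectrum.asIdeal t : Ideal Ag) := h1 hg
    exact t.isPrime.ne_top (Ideal.eq_top_of_isUnit_mem _ h2 (IsLocalization.Away.algebraMap_isUnit g))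
  haveI : IsImmersion e' := inferInstanceAs (IsImmersion (pullback.snd e j))
  haveI : IsClosedImmersion e' := by
    refine IsClosedImmersion.of_isPreimmersion e' ?_
    rw [Scheme.Pullback.range_snd]
    have h1 : j ⁻¹' Set.range e = (fun t => (⟨j t, hsub t⟩ : coborder (Set.range e))) ⁻¹'
        (Subtype.val ⁻¹' Set.range e) := rfl
    rw [h1]
    exact isClosed_preimage_val_coborder.preimage (j.continuous.subtype_mk hsub)
  obtain ⟨I, -, hI⟩ := exists_ideal_factor e'
  -- the criterion on algebras over the localisation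
  have hcrit : ∀ (T : Type u) [CommRing T] [Algebra R T] (L : Ag →ₐ[R] T),
      a.ev T (L.toRingHom.toMonoidHom.comp ((algebraMap A Ag).toMonoidHom.comp u₁)) =
        b.ev T (L.toRingHom.toMonoidHom.comp ((algebraMap A Ag).toMonoidHom.comp u₁)) ↔
      I ≤ RingHom.ker L.toRingHom := by
    intro T _ _ L
    have h1 : L.toRingHom.toMonoidHom.comp ((algebraMap A Ag).toMonoidHom.comp u₁) =
        (L.comp (IsScalarTower.toAlgHom R A Ag)).toRingHom.toMonoidHom.comp u₁ := rfl
    rw [h1, ← a.ev_comp, ← b.ev_comp, hiff, ← hI]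
    have h2 : Spec.map (CommRingCat.ofHom (L.comp (IsScalarTower.toAlgHom R A Ag)).toRingHom) =
        Spec.map (CommRingCat.ofHom L.toRingHom) ≫ j :=
      (congrArg Spec.map (CommRingCat.ofHom_comp (algebraMap A Ag) L.toRingHom)).trans (Spec.map_comp _ _)
    rw [h2]
    constructor
    · rintro ⟨l, hl⟩
      exact ⟨pullback.lift l (Spec.map (CommRingCat.ofHom L.toRingHom)) hl, pullback.lift_snd _ _ _⟩
    · rintro ⟨l, hl⟩
      exact ⟨l ≫ pullback.fst _ _, by rw [Category.assoc, pullback.condition, ← hl, Category.assoc]⟩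
  -- the ideal vanishes as it vanishes on all finite levels
  have hIbot : I = ⊥ := by
    refine (Submodule.eq_bot_iff I).2 fun c hc => ?_
    obtain ⟨⟨c₀, ⟨_, k, rfl⟩⟩, hck⟩ := IsLocalization.surj (Submonoid.powers g) c
    simp only at hck
    obtain ⟨n, hn, hsep⟩ := exists_separating
      (((MonoidAlgebra.basis (Multiplicative N) R).repr c₀).support.image Multiplicative.toAdd)
    let S₀ : AddSubgroup N := (nsmulAddMonoidHom n : N →+ N).range
    let Q := N ⧸ S₀
    haveI : Finite Q := by
      haveI : AddGroup.FG Q := AddGroup.fg_of_surjective (f := QuotientAddGroup.mk' S₀) (QuotientAddGroup.mk'_surjective _)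
      refine AddCommGroup.finite_of_fg_isAddTorsion Q fun q => ?_
      obtain ⟨y, rfl⟩ := QuotientAddGroup.mk'_surjective S₀ q
      exact isOfFinAddOrder_iff_nsmul_eq_zero.2 ⟨n, hn, (QuotientAddGroup.eq_zero_iff _).2 ⟨y, rfl⟩⟩
    let φ : Multiplicative N →* Multiplicative Q := AddMonoidHom.toMultiplicative (QuotientAddGroup.mk' S₀)
    let π : A →ₐ[R] DA R Q := MonoidAlgebra.mapDomainAlgHom R R φ
    have hπs : ∀ (x : Multiplicative N) (r : R), π (MonoidAlgebra.single x r) = MonoidAlgebra.single (φ x) r :=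
      fun x r => MonoidAlgebra.mapDomain_single
    have hcfs : ∀ (x z : Multiplicative Q) (r : R), cf z (MonoidAlgebra.single x r) = if x = z then r else 0 :=
      fun x z r => by
        rw [show (MonoidAlgebra.single x r : DA R Q) = r • MonoidAlgebra.single x 1 by simp, map_smul, cf_single]
        simp
    haveI : Module.Finite R (DA R Q) := Module.Finite.of_basis (MonoidAlgebra.basis (Multiplicative Q) R)
    have hunit : IsUnit (π g) := by
      by_contra hnu
      obtain ⟨𝔪, h𝔪, hmem⟩ := exists_max_ideal_of_mem_nonunits hnu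
      have h1 : π (g - 1) ∈ 𝔪 := map_maximalIdeal_le 𝔪 (by
        have := Ideal.mem_map_of_mem π.toRingHom hgA
        rwa [Ideal.map_map, show π.toRingHom.comp (algebraMap R A) = algebraMap R (DA R Q) from π.comp_algebraMap]
          at this)
      rw [map_sub, map_one] at h1
      exact h𝔪.ne_top ((Ideal.eq_top_iff_one _).2 (by simpa using sub_mem hmem h1))
    let πg : Ag →ₐ[R] DA R Q := IsLocalization.liftAlgHom (M := Submonoid.powers g) (f := π) (by
      rintro ⟨_, i, rfl⟩
      rw [map_pow]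
      exact hunit.pow i)
    have hπg : ∀ x, πg (algebraMap A Ag x) = π x := fun x => IsLocalization.lift_eq _ x
    have hker : I ≤ RingHom.ker πg.toRingHom := by
      refine (hcrit (DA R Q) πg).1 ?_
      have h2 : πg.toRingHom.toMonoidHom.comp ((algebraMap A Ag).toMonoidHom.comp u₁) =
          (MonoidAlgebra.of R (Multiplicative Q)).comp φ := MonoidHom.ext fun x => by
        show πg (algebraMap A Ag (MonoidAlgebra.single x (1 : R))) = MonoidAlgebra.single (φ x) 1
        rw [hπg, hπs]
      rw [h2]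
      exact eq_of_finite V (a.restrict φ) (b.restrict φ) (hfp.restrict φ) (fun T _ _ χ χ' => hcomm T _ _)
        (fun T _ _ hT χ => heq T hT _) (DA R Q) (MonoidAlgebra.of R (Multiplicative Q))
    have hc₀ : π c₀ = 0 := by
      rw [← hπg, ← hck, map_mul, show πg c = 0 from hker hc, zero_mul]
    have hc₀0 : c₀ = 0 := by
      refine (MonoidAlgebra.basis (Multiplicative N) R).ext_elem fun x => ?_
      rw [map_zero, Finsupp.zero_apply]
      by_contra hx
      have hco : ∀ y : DA R N, (∀ x' ∈ ((MonoidAlgebra.basis (Multiplicative N) R).repr y).support, φ x' = φ x → x' = x) →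
          cf (φ x) (π y) = (MonoidAlgebra.basis (Multiplicative N) R).repr y x := by
        intro y hy
        conv_lhs => rw [← (MonoidAlgebra.basis (Multiplicative N) R).linearCombination_repr y,
          Finsupp.linearCombination_apply, Finsupp.sum, map_sum, map_sum]
        rw [Finset.sum_eq_single x]
        · simp [hπs, hcfs]
        · intro x' hx' hne
          have : φ x' ≠ φ x := fun h => hne (hy x' hx' h)
          simp [hπs, hcfs, this]
        · intro hnot
          simp [Finsupp.notMem_support_iff.1 hnot]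
      refine hx ((hco c₀ ?_).symm.trans (by rw [hc₀, map_zero]))
      intro x' hx' heq'
      by_contra hne
      have h3 : Multiplicative.toAdd x' - Multiplicative.toAdd x ∈ S₀ :=
        (QuotientAddGroup.eq_iff_sub_mem).1 heq'
      obtain ⟨w, hw⟩ := h3
      exact hsep _ (Finset.mem_image_of_mem _ hx') _ (Finset.mem_image_of_mem _ (Finsupp.mem_support_iff.2 hx))
        (fun e => hne e) w hw
    rw [hc₀0, map_zero] at hck
    exact (IsUnit.mul_left_eq_zero ((IsLocalization.Away.algebraMap_isUnit g).pow k)).1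
      (by rw [← map_pow]; exact hck)
  have h := (hcrit Ag (AlgHom.id R Ag)).2 (by rw [hIbot]; exact bot_le)
  exact h

end Groth.Agent.EqNhdComm
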